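import Cfsg.Agent.H603.CC.Defs
import Cfsg.Agent.Characters.Core

/-!
# S4793-STAR: the relations `Star`

* `star_wf` : `wf q` satisfies the relations; `wf_class` : it is a class function;
* `star_of_noRef` : a character without reflection-fixed vectors satisfies the relations;
* `inner_eq_zero` : a class function satisfying the relations is orthogonal to the other characters.
-/

set_option autoImplicit false

open Cfsg
open scoped ComplexConjugate

namespace Cfsg.Agent.H212.CC

open Module Cfsg.Agent.H603.CC Cfsg.Agent.Characters.Core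

universe u v

/-! ### Representations -/

section Rep

variable {G : Type u} [Group G] [Finite G]

/-- No `R`-fixed vectors: the sum over `R` is zero. -/
theorem sum_rep_eq_zero {W : Type*} [AddCommGroup W] [Module ℂ W] [FiniteDimensional ℂ W]
    (ρ : Representation ℂ G W) (R : Subgroup G) [Fintype R] (h : ∑ r : R, ρ.character (r : G) = 0) :
    ∑ r : R, ρ (r : G) = 0 := by
  classical
  have hne : (Nat.card R : ℂ) ≠ 0 := by exact_mod_cast Nat.card_pos.ne'
  have : Invertible (Nat.card R : ℂ) := invertibleOfNonzero hne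
  obtain ⟨τ, hτ⟩ : ∃ τ : Representation ℂ R W, τ = ρ.comp R.subtype := ⟨_, rfl⟩
  have hτr : ∀ r : R, τ r = ρ (r : G) := fun r => by rw [hτ]; rfl
  have h1 := Representation.card_inv_mul_sum_char_eq_finrank τ
  have h2 : ∑ r : R, τ.character r = 0 := by
    rw [← h]
    refine Finset.sum_congr rfl fun r _ => ?_
    rw [Representation.character, Representation.character, hτr]
  rw [h2, mul_zero] at h1
  have h3 : Module.finrank ℂ τ.invariants = 0 := by exact_mod_cast h1.symm
  have h4 : τ.invariants = ⊥ := Submodule.finrank_eq_zero.1 h3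
  refine LinearMap.ext fun w => ?_
  have h5 : (∑ r : R, ρ (r : G)) w ∈ τ.invariants := by
    rw [Representation.mem_invariants]
    intro s
    rw [LinearMap.sum_apply, map_sum]
    refine Fintype.sum_equiv (Equiv.mulLeft s) _ _ fun r => ?_
    rw [hτr, ← Module.End.mul_apply, ← map_mul]
    rfl
  rw [h4, Submodule.mem_bot] at h5
  rw [h5, LinearMap.zero_apply]

/-- a character without `R`-fixed vectors -/
theorem sum_char_mul_eq_zero {χ : G → ℂ} (hχ : IsCharacter G χ) (R : Subgroup G)
    (h : ∑ᶠ r : R, χ (r : G) = 0) (g : G) : ∑ᶠ r : R, χ ((r : G) * g) = 0 := by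
  classical
  have : Fintype R := Fintype.ofFinite R
  obtain ⟨n, ρ, rfl⟩ := hχ
  rw [finsum_eq_sum_of_fintype] at h ⊢
  have h1 := sum_rep_eq_zero ρ R h
  have h2 : ∑ r : R, ρ.character ((r : G) * g) = LinearMap.trace ℂ _ ((∑ r : R, ρ (r : G)) * ρ g) := by
    rw [Finset.sum_mul, map_sum]
    refine Finset.sum_congr rfl fun r _ => ?_
    rw [Representation.character, map_mul]
  rw [h2, h1, zero_mul, map_zero]

/-- a class function with the relations for `R` is orthogonal to the irreducible characters with `R`-fixed vectors -/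
theorem inner_eq_zero_of_sum [Fintype G] {Δ χ : G → ℂ} (hcl : IsClassFunction G Δ) (R : Subgroup G)
    (hs : ∀ g : G, ∑ᶠ r : R, Δ ((r : G) * g) = 0) (hχ : IsIrrCharacter G χ)
    (hn : ∑ᶠ r : R, χ (r : G) ≠ 0) : classInner Δ χ = 0 := by
  classical
  have : Fintype R := Fintype.ofFinite R
  obtain ⟨n, ρ, hρ, rfl⟩ := hχ
  obtain ⟨c, hc⟩ := exists_sum_smul_rho_inv_eq_smul_one hcl ρ hρ
  rw [finsum_eq_sum_of_fintype] at hn
  -- the trace of the product with the sum over `R`
  have h1 : ∀ r : R, LinearMap.trace ℂ _ ((∑ g : G, Δ g • ρ g⁻¹) * ρ (r : G)) = c * ρ.character (r : G) := by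
    intro r
    rw [hc, smul_mul_assoc, one_mul, map_smul, smul_eq_mul]
    rfl
  have h2 : ∀ r : R, LinearMap.trace ℂ _ ((∑ g : G, Δ g • ρ g⁻¹) * ρ (r : G)) =
      ∑ h : G, Δ ((r : G) * h⁻¹) * ρ.character h := by
    intro r
    rw [Finset.sum_mul, map_sum]
    refine Fintype.sum_equiv ((Equiv.inv G).trans (Equiv.mulRight (r : G))) _ _ fun g => ?_
    have h3 : ((Equiv.inv G).trans (Equiv.mulRight (r : G))) g = g⁻¹ * r := rfl
    rw [h3, smul_mul_assoc, map_smul, smul_eq_mul, ← map_mul]
    congr 1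
    congr 1
    group
  have h3 : c * ∑ r : R, ρ.character (r : G) = 0 := by
    rw [Finset.mul_sum]
    have h4 : ∑ r : R, c * ρ.character (r : G) = ∑ r : R, ∑ h : G, Δ ((r : G) * h⁻¹) * ρ.character h :=
      Finset.sum_congr rfl fun r _ => by rw [← h1, h2]
    rw [h4, Finset.sum_comm]
    refine Finset.sum_eq_zero fun h _ => ?_
    have h5 := hs h⁻¹
    rw [finsum_eq_sum_of_fintype] at h5
    rw [← Finset.sum_mul, h5, zero_mul]
  have hc0 : c = 0 := (mul_eq_zero.1 h3).resolve_right hn
  have h4 : ∑ g : G, Δ g * ρ.character g⁻¹ = 0 := by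
    have h5 := congrArg (LinearMap.trace ℂ _) hc
    rw [hc0, zero_smul, map_zero, map_sum] at h5
    rw [← h5]
    refine Finset.sum_congr rfl fun g _ => ?_
    rw [map_smul, smul_eq_mul]
    rfl
  rw [classInner_def]
  have h5 : ∑ g : G, Δ g * conj (ρ.character g) = ∑ g : G, Δ g * ρ.character g⁻¹ :=
    Finset.sum_congr rfl fun g _ => by rw [isCharacter_apply_inv ⟨n, ρ, rfl⟩]
  rw [h5, h4, mul_zero]

end Rep

section Star

variable {F : Type u} {V : Type v} [Field F] [AddCommGroup V] [Module F V] {q : ℕ} {σ : F →+* F}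
  {B : V →ₛₗ[σ] V →ₗ[F] F} [Finite F] [Finite V]

/-- a character without reflection-fixed vectors satisfies the relations -/
theorem star_of_noRef {χ : UU B → ℂ} (hχ : IsCharacter (UU B) χ) (hn : NoRef χ) : Star χ :=
  fun f hf g => sum_char_mul_eq_zero hχ (Ref B f) (hn f hf) g

/-- a class function satisfying the relations is orthogonal to the other characters -/
theorem inner_eq_zero [Fintype (UU B)] {Δ χ : UU B → ℂ} (hcl : IsClassFunction (UU B) Δ) (hs : Star Δ)
    (hχ : IsIrrCharacter (UU B) χ) (hn : ¬ NoRef χ) : classInner Δ χ = 0 := by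
  unfold NoRef at hn
  push Not at hn
  obtain ⟨f, hf, hne⟩ := hn
  exact inner_eq_zero_of_sum hcl (Ref B f) (hs f hf) hχ hne

theorem wf_class : IsClassFunction (UU B) (wf q) := by
  intro g x
  unfold wf
  congr 1
  have h1 : fx (x * g * x⁻¹) = (fx g).map ((x : V ≃ₗ[F] V) : V →ₗ[F] V) := by
    ext v
    rw [mem_fx, Submodule.mem_map]
    constructor
    · intro h
      refine ⟨ac B x⁻¹ v, ?_, ac_ac_inv x v⟩
      rw [mem_fx]
      have h2 : ac B x⁻¹ (ac B (x * g * x⁻¹) v) = ac B x⁻¹ v := by rw [h]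
      conv_rhs => rw [← h2]
      rw [← ac_mul, ← ac_mul]
      congr 1
      group
    · rintro ⟨w, hw, rfl⟩
      have h2 : ac B (x * g * x⁻¹) (ac B x w) = ac B x (ac B g w) := by
        rw [← ac_mul, ← ac_mul]
        congr 1
        group
      rw [mem_fx] at hw
      rw [hw] at h2
      exact h2
  rw [h1]
  exact LinearEquiv.finrank_map_eq (x : V ≃ₗ[F] V) (fx g)

/-! ### The form -/

/-- the dimension of the orthogonal complement -/
theorem finrank_perp (h : HS q σ B) (W : Submodule F V) :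
    finrank F (perp B W) + finrank F W = finrank F V := by
  have hfd : FiniteDimensional F V := inferInstance
  have hfinD : Finite (Dual F W) := Module.finite_of_finite F
  let φ : V →+ Dual F W :=
    { toFun := fun v => (B v).domRestrict W
      map_zero' := by rw [map_zero]; rfl
      map_add' := fun a b => by rw [map_add]; rfl }
  have hφ : ∀ (v : V) (w : W), φ v w = B v w := fun _ _ => rfl
  have hsurj : Function.Surjective φ := by
    intro ℓ
    obtain ⟨v, hv⟩ := Cfsg.Agent.ClassicalGeometry.HermWitt.exists_represent σ B h.sep W.subtype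
      W.injective_subtype ℓ
    exact ⟨v, LinearMap.ext fun w => hv w⟩
  have hker : ∀ v, v ∈ φ.ker ↔ v ∈ perp B W := by
    intro v
    rw [AddMonoidHom.mem_ker, mem_perp]
    constructor
    · intro h1 w hw
      exact h.zero_symm (by rw [← hφ v ⟨w, hw⟩, h1]; rfl)
    · intro h1
      exact LinearMap.ext fun w => h.zero_symm (h1 w w.2)
  have hc : Nat.card (perp B W) * Nat.card W = Nat.card V := by
    have h1 : Nat.card φ.ker * Nat.card (V ⧸ φ.ker) = Nat.card V :=
      (AddSubgroup.card_mul_index φ.ker)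
    have h2 : Nat.card (V ⧸ φ.ker) = Nat.card (Dual F W) :=
      Nat.card_congr (QuotientAddGroup.quotientKerEquivOfSurjective φ hsurj).toEquiv
    have h3 : Nat.card φ.ker = Nat.card (perp B W) := Nat.card_congr (Equiv.subtypeEquivRight hker)
    have h4 : Nat.card W = Nat.card (Dual F W) := Nat.card_congr ((Module.finBasis F W).toDualEquiv).toEquiv
    rw [← h3, h4, ← h2]
    exact h1
  rw [Module.natCard_eq_pow_finrank (K := F) (V := perp B W), Module.natCard_eq_pow_finrank (K := F) (V := W),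
    Module.natCard_eq_pow_finrank (K := F) (V := V), ← pow_add] at hc
  exact Nat.pow_right_injective Finite.one_lt_card hc

theorem perp_perp (h : HS q σ B) (W : Submodule F V) : perp B (perp B W) = W := by
  symm
  refine Submodule.eq_of_le_of_finrank_eq (fun w hw => ?_) ?_
  · rw [mem_perp]
    exact fun v hv => h.zero_symm (hv w hw)
  · have h1 := finrank_perp h W
    have h2 := finrank_perp h (perp B W)
    omega

/-- the map `x ↦ x + (c - 1) B(f,x) f` -/
def rfl' (B : V →ₛₗ[σ] V →ₗ[F] F) (f : V) (c : F) : V →ₗ[F] V :=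
  LinearMap.id + (c - 1) • (B f).smulRight f

omit [Finite F] [Finite V] in
theorem rfl'_apply (f : V) (c : F) (x : V) : rfl' B f c x = x + ((c - 1) * B f x) • f := by
  rw [rfl', LinearMap.add_apply, LinearMap.id_apply, LinearMap.smul_apply, LinearMap.smulRight_apply, smul_smul]

omit [Finite F] [Finite V] in
theorem rfl'_rfl' {f : V} (hf : B f f = 1) (c d : F) (x : V) : rfl' B f c (rfl' B f d x) = rfl' B f (c * d) x := by
  rw [rfl'_apply, rfl'_apply, rfl'_apply, map_add, map_smul, hf, smul_eq_mul, add_assoc, ← add_smul]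
  congr 2
  ring

/-- the reflections with centre `f` -/
theorem exists_rf (h : HS q σ B) {f : V} (hf : B f f = 1) {c : F} (hc : c ^ (q + 1) = 1) :
    ∃ ρ ∈ Ref B f, ∀ x, ac B ρ x = x + ((c - 1) * B f x) • f := by
  have hc0 : c ≠ 0 := by
    rintro rfl
    rw [zero_pow (by omega)] at hc
    exact zero_ne_one hc
  have h1 : ∀ x, rfl' B f 1 x = x := fun x => by rw [rfl'_apply, sub_self, zero_mul, zero_smul, add_zero]
  let L : V ≃ₗ[F] V := LinearEquiv.ofLinearMap (rfl' B f c) (rfl' B f c⁻¹)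
    (LinearMap.ext fun x => by rw [LinearMap.comp_apply, rfl'_rfl' hf, mul_inv_cancel₀ hc0, h1, LinearMap.id_apply])
    (LinearMap.ext fun x => by rw [LinearMap.comp_apply, rfl'_rfl' hf, inv_mul_cancel₀ hc0, h1, LinearMap.id_apply])
  have hL : ∀ x, L x = x + ((c - 1) * B f x) • f := fun x => rfl'_apply f c x
  have hσc : σ c * c = 1 := by rw [h.sig, ← pow_succ, hc]
  have hB : ∀ x y, B (L x) (L y) = B x y := by
    intro x y
    have h2 : B x f = σ (B f x) := (h.sy f x).symm
    rw [hL, hL, map_add, map_add, LinearMap.add_apply, LinearMap.add_apply, LinearMap.map_smulₛₗ₂,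
      LinearMap.map_smulₛₗ₂, map_smul, map_smul, hf, h2]
    simp only [smul_eq_mul, map_mul, map_sub, map_one]
    linear_combination (σ (B f x) * B f y) * hσc
  refine ⟨mkU L hB, fun w hw => ?_, fun x => hL x⟩
  rw [ac_mkU, hL]
  have h2 : B f w = 0 := hw f (Submodule.mem_span_singleton_self f)
  rw [h2, mul_zero, zero_smul, add_zero]

theorem of_mem_Ref (h : HS q σ B) {f : V} (hf : B f f = 1) {ρ : UU B} (hρ : ρ ∈ Ref B f) :
    ∃ c : F, c ^ (q + 1) = 1 ∧ ∀ x, ac B ρ x = x + ((c - 1) * B f x) • f := by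
  have h1 : ac B ρ f ∈ perp B (perp B (Submodule.span F {f})) := by
    intro w hw
    have h2 : ac B ρ w = w := hρ w hw
    have h3 : B (ac B ρ w) (ac B ρ f) = B w f := form_ac ρ w f
    rw [h2] at h3
    rw [h3]
    exact h.zero_symm (hw f (Submodule.mem_span_singleton_self f))
  rw [perp_perp h, Submodule.mem_span_singleton] at h1
  obtain ⟨c, hc⟩ := h1
  have hn : σ c * c = 1 := by
    have h2 := form_ac ρ f f
    rw [← hc, LinearMap.map_smulₛₗ₂, map_smul, hf, smul_eq_mul, smul_eq_mul, mul_one] at h2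
    exact h2
  refine ⟨c, by rw [pow_succ, ← h.sig, hn], fun x => ?_⟩
  have h2 : ac B ρ (x - B f x • f) = x - B f x • f := by
    refine hρ _ fun w hw => ?_
    obtain ⟨a, rfl⟩ := Submodule.mem_span_singleton.1 hw
    rw [LinearMap.map_smulₛₗ₂, map_sub, map_smul, hf, smul_eq_mul, smul_eq_mul, mul_one, sub_self, mul_zero]
  rw [ac_sub, ac_smul, ← hc, sub_eq_iff_eq_add, smul_smul] at h2
  rw [h2, sub_add, ← sub_smul, sub_eq_add_neg, ← neg_smul]
  congr 2
  ring

theorem card_roots (h2 : 2 ≤ q) (hF : Nat.card F = q ^ 2) : Nat.card (rootsOfUnity (q + 1) F) = q + 1 := by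
  obtain ⟨g, hg⟩ := IsCyclic.exists_generator (α := Fˣ)
  have h4 : orderOf g = Nat.card Fˣ := orderOf_eq_card_of_forall_mem_zpowers hg
  have h5 : Nat.card Fˣ = (q + 1) * (q - 1) := by
    rw [Nat.card_units, hF]
    obtain ⟨r, rfl⟩ := Nat.exists_eq_add_of_le h2
    have h6 : (2 + r) ^ 2 = (2 + r + 1) * (2 + r - 1) + 1 := by
      have h7 : 2 + r - 1 = 1 + r := by omega
      rw [h7]
      ring
    omega
  have h6 : orderOf (g ^ (q - 1)) = q + 1 := by
    rw [orderOf_pow' g (by omega), h4, h5, Nat.gcd_mul_left_left, Nat.mul_div_cancel _ (by omega)]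
  have h7 : IsPrimitiveRoot (g ^ (q - 1)) (q + 1) := by
    have h8 := IsPrimitiveRoot.orderOf (g ^ (q - 1))
    rwa [h6] at h8
  have h8 : IsPrimitiveRoot ((g ^ (q - 1) : Fˣ) : F) (q + 1) := IsPrimitiveRoot.coe_units_iff.2 h7
  exact h8.card_rootsOfUnity

theorem card_Ref (h : HS q σ B) {f : V} (hf : B f f = 1) : Nat.card (Ref B f) = q + 1 := by
  have hroot : ∀ u : rootsOfUnity (q + 1) F, ((u : Fˣ) : F) ^ (q + 1) = 1 := fun u => by
    rw [← Units.val_pow_eq_pow_val, (mem_rootsOfUnity _ _).1 u.2, Units.val_one]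
  have hex : ∀ u : rootsOfUnity (q + 1) F, ∃ ρ : Ref B f, ∀ x, ac B (ρ : UU B) x = x + ((((u : Fˣ) : F) - 1) * B f x) • f := by
    intro u
    obtain ⟨ρ, hρ, h1⟩ := exists_rf h hf (hroot u)
    exact ⟨⟨ρ, hρ⟩, h1⟩
  choose Ψ hΨ using hex
  have hf0 : f ≠ 0 := by
    rintro rfl
    rw [map_zero] at hf
    exact zero_ne_one hf
  have hinj : Function.Injective Ψ := by
    intro u v huv
    have h1 := hΨ u f
    rw [huv, hΨ v f, hf, mul_one, mul_one, add_right_inj] at h1
    have h2 := smul_left_injective F hf0 h1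
    have h3 : (((v : Fˣ) : F)) = ((u : Fˣ) : F) := by
      have h4 : (((v : Fˣ) : F)) - 1 = ((u : Fˣ) : F) - 1 := h2
      linear_combination h4
    exact Subtype.ext (Units.ext h3.symm)
  have hsurj : Function.Surjective Ψ := by
    rintro ⟨ρ, hρ⟩
    obtain ⟨c, hc, h1⟩ := of_mem_Ref h hf hρ
    have hc0 : c ≠ 0 := by
      rintro rfl
      rw [zero_pow (by omega)] at hc
      exact zero_ne_one hc
    refine ⟨⟨Units.mk0 c hc0, (mem_rootsOfUnity _ _).2 (Units.ext ?_)⟩, Subtype.ext (ac_ext fun x => ?_)⟩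
    · rw [Units.val_pow_eq_pow_val, Units.val_mk0, hc, Units.val_one]
    · rw [hΨ, h1]
      rfl
  rw [← Nat.card_congr (Equiv.ofBijective Ψ ⟨hinj, hsurj⟩), card_roots h.two_le h.card]

/-! ### The function `wf` -/

/-- the vectors moved along `f` -/
def dd (f : V) (g : UU B) : Submodule F V where
  carrier := {x | x - ac B g x ∈ Submodule.span F {f}}
  add_mem' := fun {a b} ha hb => by
    have h1 : a + b - ac B g (a + b) = (a - ac B g a) + (b - ac B g b) := by rw [ac_add]; abel
    show a + b - ac B g (a + b) ∈ Submodule.span F {f}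
    rw [h1]
    exact Submodule.add_mem _ ha hb
  zero_mem' := by
    show (0 : V) - ac B g 0 ∈ Submodule.span F {f}
    rw [ac_zero, sub_zero]
    exact Submodule.zero_mem _
  smul_mem' := fun c a ha => by
    show c • a - ac B g (c • a) ∈ Submodule.span F {f}
    rw [ac_smul, ← smul_sub]
    exact Submodule.smul_mem _ _ ha

omit [Finite F] [Finite V] in
theorem mem_dd {f : V} {g : UU B} {x : V} : x ∈ dd f g ↔ x - ac B g x ∈ Submodule.span F {f} := Iff.rfl

theorem finrank_dd (h : HS q σ B) {f : V} (hf : B f f = 1) (g : UU B) :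
    finrank F (dd f g) = finrank F (fx g ⊓ perp B (Submodule.span F {f}) : Submodule F V) + 1 := by
  obtain ⟨P, hP⟩ : ∃ P, P = perp B (Submodule.span F {f}) := ⟨_, rfl⟩
  let T : V →ₗ[F] V := LinearMap.id - ((g⁻¹ : UU B) : V ≃ₗ[F] V).toLinearMap
  have hT : ∀ x, T x = x - ac B g⁻¹ x := fun _ => rfl
  have h1 : dd f g = perp B (P.map T) := by
    ext x
    rw [mem_dd, mem_perp]
    have h2 : ∀ y, B (T y) x = B y (x - ac B g x) := by
      intro y
      rw [hT, map_sub, map_sub, LinearMap.sub_apply, ← form_ac g (ac B g⁻¹ y) x, ac_ac_inv]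
    constructor
    · rintro hx _ ⟨y, hy, rfl⟩
      rw [h2]
      rw [hP] at hy
      exact h.zero_symm (hy _ hx)
    · intro hx
      rw [← perp_perp h (Submodule.span F {f}), mem_perp]
      intro y hy
      rw [← h2]
      exact hx _ ⟨y, by rw [hP]; exact hy, rfl⟩
  have h2 : finrank F (P.map T) + finrank F (fx g ⊓ P : Submodule F V) = finrank F P := by
    have h3 := LinearMap.finrank_range_add_finrank_ker (T.domRestrict P)
    have h4 : LinearMap.range (T.domRestrict P) = P.map T := by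
      rw [LinearMap.range_domRestrict]
    have h5 : finrank F (LinearMap.ker (T.domRestrict P)) = finrank F (fx g ⊓ P : Submodule F V) := by
      have h6 : (LinearMap.ker (T.domRestrict P)).map P.subtype = fx g ⊓ P := by
        ext x
        rw [Submodule.mem_map, Submodule.mem_inf, mem_fx]
        constructor
        · rintro ⟨y, hy, rfl⟩
          refine ⟨?_, y.2⟩
          rw [LinearMap.mem_ker, LinearMap.domRestrict_apply, hT, sub_eq_zero] at hy
          have h7 := ac_ac_inv g (y : V)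
          rw [← hy] at h7
          exact h7
        · rintro ⟨hx, hxP⟩
          refine ⟨⟨x, hxP⟩, ?_, rfl⟩
          rw [LinearMap.mem_ker, LinearMap.domRestrict_apply, hT, sub_eq_zero]
          have h7 := ac_inv_ac g x
          rw [hx] at h7
          exact h7.symm
      rw [← h6]
      exact (Submodule.finrank_map_subtype_eq P _).symm
    rw [h4, h5] at h3
    exact h3
  have hf0 : f ≠ 0 := by
    rintro rfl
    rw [map_zero] at hf
    exact zero_ne_one hf
  have h3 := finrank_perp h (P.map T)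
  have h4 := finrank_perp h (Submodule.span F {f})
  rw [finrank_span_singleton hf0, ← hP] at h4
  rw [h1, ← hP]
  omega

/-- **`wf q` satisfies the relations.** -/
theorem star_wf (h : HS q σ B) : Star (B := B) (wf q) := by
  classical
  intro f hf g
  have hfin : Fintype (Ref B f) := Fintype.ofFinite _
  obtain ⟨K, hK⟩ : ∃ K : Submodule F V, K = fx g ⊓ perp B (Submodule.span F {f}) := ⟨_, rfl⟩
  obtain ⟨k, hk⟩ : ∃ k, k = finrank F K := ⟨_, rfl⟩
  have hD : finrank F (dd f g) = k + 1 := by rw [finrank_dd h hf, ← hK, hk]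
  have hmemK : ∀ x, x ∈ K ↔ ac B g x = x ∧ B f x = 0 := by
    intro x
    rw [hK, Submodule.mem_inf, mem_fx, mem_perp]
    refine and_congr_right fun _ => ⟨fun h1 => h1 f (Submodule.mem_span_singleton_self f), fun h1 w hw => ?_⟩
    obtain ⟨a, rfl⟩ := Submodule.mem_span_singleton.1 hw
    rw [LinearMap.map_smulₛₗ₂, h1, smul_zero]
  -- the bounds
  have hKf : ∀ ρ : Ref B f, K ≤ fx ((ρ : UU B) * g) := by
    intro ρ x hx
    obtain ⟨h1, h2⟩ := (hmemK x).1 hx
    rw [mem_fx, ac_mul, h1]
    refine ρ.2 x fun w hw => ?_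
    obtain ⟨a, rfl⟩ := Submodule.mem_span_singleton.1 hw
    rw [LinearMap.map_smulₛₗ₂, h2, smul_zero]
  have hfD : ∀ ρ : Ref B f, fx ((ρ : UU B) * g) ≤ dd f g := by
    intro ρ x hx
    obtain ⟨c, hc, h1⟩ := of_mem_Ref h hf ρ.2
    rw [mem_fx, ac_mul, h1] at hx
    rw [mem_dd]
    have h2 : x - ac B g x = ((c - 1) * B f (ac B g x)) • f := by
      rw [sub_eq_iff_eq_add', hx]
    rw [h2]
    exact Submodule.smul_mem _ _ (Submodule.mem_span_singleton_self f)
  -- a vector of `dd` outside `K`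
  obtain ⟨x, hxD, hxK⟩ : ∃ x ∈ dd f g, x ∉ K := by
    by_contra hcon
    push Not at hcon
    have h1 := Submodule.finrank_mono (show dd f g ≤ K from hcon)
    omega
  obtain ⟨y, hy⟩ : ∃ y, y = ac B g x := ⟨_, rfl⟩
  rw [mem_dd, ← hy] at hxD
  obtain ⟨t, ht⟩ := Submodule.mem_span_singleton.1 hxD
  have hxy : x = y + t • f := by rw [ht]; abel
  obtain ⟨a, ha⟩ : ∃ a, a = B f y := ⟨_, rfl⟩
  have hb : B f x = a + t := by rw [hxy, map_add, map_smul, hf, smul_eq_mul, mul_one, ha]
  have hnorm : σ (a + t) * (a + t) = σ a * a := by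
    have h1 : B x x = B y y := by rw [hy, form_ac]
    have h2 : B y f = σ a := by rw [ha, h.sy]
    rw [hxy, map_add, map_add, LinearMap.add_apply, LinearMap.add_apply, LinearMap.map_smulₛₗ₂,
      LinearMap.map_smulₛₗ₂, map_smul, map_smul, hf, h2, ← ha] at h1
    simp only [smul_eq_mul] at h1
    rw [map_add]
    linear_combination h1
  have ha0 : a ≠ 0 := by
    intro h0
    rw [h0, zero_add, mul_zero] at hnorm
    have ht0 : t = 0 := by
      rcases mul_eq_zero.1 hnorm with h1 | h1
      · exact (map_eq_zero σ).1 h1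
      · exact h1
    rw [ht0, zero_smul, add_zero] at hxy
    refine hxK ((hmemK x).2 ⟨?_, ?_⟩)
    · rw [← hy, ← hxy]
    · rw [hb, h0, ht0, add_zero]
  obtain ⟨c, hc⟩ : ∃ c, c = (a + t) / a := ⟨_, rfl⟩
  have hca : c * a = a + t := by rw [hc, div_mul_cancel₀ _ ha0]
  have hc1 : c ^ (q + 1) = 1 := by
    have h1 : σ c * c * (σ a * a) = σ a * a := by
      rw [← hca, map_mul] at hnorm
      linear_combination hnorm
    have h2 : σ a * a ≠ 0 := mul_ne_zero ((map_ne_zero σ).2 ha0) ha0
    rw [pow_succ, ← h.sig]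
    exact mul_right_cancel₀ h2 (by rw [h1, one_mul])
  obtain ⟨ρ₀', hρ₀', hρ₀⟩ := exists_rf h hf hc1
  obtain ⟨ρ₀, rfl⟩ : ∃ ρ₀ : Ref B f, ρ₀' = ρ₀ := ⟨⟨ρ₀', hρ₀'⟩, rfl⟩
  have hx0 : x ∈ fx ((ρ₀ : UU B) * g) := by
    rw [mem_fx, ac_mul, ← hy, hρ₀, ← ha, hxy]
    congr 2
    linear_combination hca
  have huniq : ∀ ρ : Ref B f, x ∈ fx ((ρ : UU B) * g) → ρ = ρ₀ := by
    intro ρ hρ
    obtain ⟨d, hd, h1⟩ := of_mem_Ref h hf ρ.2
    rw [mem_fx, ac_mul, ← hy, h1, ← ha] at hρ
    rw [mem_fx, ac_mul, ← hy, hρ₀, ← ha, ← hρ, add_right_inj] at hx0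
    have hf0 : f ≠ 0 := by
      rintro rfl
      rw [map_zero] at hf
      exact zero_ne_one hf
    have h2 : (c - 1) * a = (d - 1) * a := smul_left_injective F hf0 hx0
    have h3 : c = d := by
      have h4 := mul_right_cancel₀ ha0 h2
      linear_combination h4
    refine Subtype.ext (ac_ext fun z => ?_)
    rw [h1, hρ₀, h3]
  have hval : ∀ ρ : Ref B f, wf q ((ρ : UU B) * g) =
      (-(q : ℂ)) ^ k + if ρ = ρ₀ then (-(q : ℂ)) ^ (k + 1) - (-(q : ℂ)) ^ k else 0 := by
    intro ρ
    have h1 := Submodule.finrank_mono (hKf ρ)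
    have h2 := Submodule.finrank_mono (hfD ρ)
    by_cases hρ : ρ = ρ₀
    · rw [if_pos hρ, wf]
      have h3 : K < fx ((ρ : UU B) * g) := lt_of_le_of_ne (hKf ρ) fun h4 => hxK (by rw [h4, hρ]; exact hx0)
      have h4 := Submodule.finrank_lt_finrank_of_lt h3
      have h5 : finrank F (fx ((ρ : UU B) * g)) = k + 1 := by omega
      rw [h5]
      ring
    · rw [if_neg hρ, wf, add_zero]
      have h3 : fx ((ρ : UU B) * g) < dd f g := lt_of_le_of_ne (hfD ρ) fun h4 =>
        hρ (huniq ρ (by rw [h4, mem_dd, ← hy]; exact hxD))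
      have h4 := Submodule.finrank_lt_finrank_of_lt h3
      have h5 : finrank F (fx ((ρ : UU B) * g)) = k := by omega
      rw [h5]
  rw [finsum_eq_sum_of_fintype, Finset.sum_congr rfl fun ρ _ => hval ρ, Finset.sum_add_distrib, Finset.sum_const,
    Finset.sum_ite_eq' Finset.univ ρ₀, if_pos (Finset.mem_univ ρ₀), Finset.card_univ, ← Nat.card_eq_fintype_card,
    card_Ref h hf, nsmul_eq_mul]
  push_cast
  ring

end Star

end Cfsg.Agent.H212.CC
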